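import Cfsg.Agent.H638.G2Link
import Cfsg.Agent.S1059
set_option linter.all false

-- part: H638/G2Ord
section
/-!
# An upper bound for the order of `Cfsg.Lie.G2 F`

`card_G2_le`: for a finite field with `q` elements the automorphism group of Zorn's algebra has order at most
`q⁶ (q² - 1) (q⁶ - 1)`.
-/

set_option autoImplicit false

namespace Cfsg.Agent.H638.G2Ord

open Cfsg.Lie Matrix Cfsg.Agent.H638.G2Mem

variable {F : Type*} [Field F]

/-- basis vectors -/
def bas (F : Type*) [Field F] (i : Fin 8) : Fin 8 → F := Pi.single i 1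

theorem A1_mul (y : Fin 8 → F) : zornMul (bas F 1) y = ![y 4, y 7, 0, 0, 0, - y 3, y 2, 0] := by
  rw [zorn_apply]
  ext i
  fin_cases i <;> simp [bas]

theorem mul_A1 (y : Fin 8 → F) : zornMul y (bas F 1) = ![0, y 0, 0, 0, 0, y 3, - y 2, y 4] := by
  rw [zorn_apply]
  ext i
  fin_cases i <;> simp [bas]

theorem A2_mul (y : Fin 8 → F) : zornMul (bas F 2) y = ![y 5, 0, y 7, 0, y 3, 0, - y 1, 0] := by
  rw [zorn_apply]
  ext i
  fin_cases i <;> simp [bas]

theorem mul_A2 (y : Fin 8 → F) : zornMul y (bas F 2) = ![0, 0, y 0, 0, - y 3, 0, y 1, y 5] := by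
  rw [zorn_apply]
  ext i
  fin_cases i <;> simp [bas]

theorem B3_mul (y : Fin 8 → F) : zornMul (bas F 6) y = ![0, y 5, - y 4, 0, 0, 0, y 0, y 3] := by
  rw [zorn_apply]
  ext i
  fin_cases i <;> simp [bas]

theorem mul_B3 (y : Fin 8 → F) : zornMul y (bas F 6) = ![y 3, - y 5, y 4, 0, 0, 0, y 7, 0] := by
  rw [zorn_apply]
  ext i
  fin_cases i <;> simp [bas]

/-- `x² = 0`, `x ≠ 0` -/
theorem sq_zero {x : Fin 8 → F} (hx : x ≠ 0) (h : zornMul x x = 0) :
    x 7 = - x 0 ∧ x 0 ^ 2 + (x 1 * x 4 + x 2 * x 5 + x 3 * x 6) = 0 := by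
  rw [zorn_apply] at h
  have h0 := congrFun h 0
  have h1 := congrFun h 1
  have h2 := congrFun h 2
  have h3 := congrFun h 3
  have h4 := congrFun h 4
  have h5 := congrFun h 5
  have h6 := congrFun h 6
  have h7 := congrFun h 7
  simp at h0 h1 h2 h3 h4 h5 h6 h7
  have hz : x 0 + x 7 = 0 := by
    by_contra hne
    apply hx
    have e1 : x 1 = 0 := (mul_eq_zero.1 (show (x 0 + x 7) * x 1 = 0 by linear_combination h1)).resolve_left hne
    have e2 : x 2 = 0 := (mul_eq_zero.1 (show (x 0 + x 7) * x 2 = 0 by linear_combination h2)).resolve_left hne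
    have e3 : x 3 = 0 := (mul_eq_zero.1 (show (x 0 + x 7) * x 3 = 0 by linear_combination h3)).resolve_left hne
    have e4 : x 4 = 0 := (mul_eq_zero.1 (show (x 0 + x 7) * x 4 = 0 by linear_combination h4)).resolve_left hne
    have e5 : x 5 = 0 := (mul_eq_zero.1 (show (x 0 + x 7) * x 5 = 0 by linear_combination h5)).resolve_left hne
    have e6 : x 6 = 0 := (mul_eq_zero.1 (show (x 0 + x 7) * x 6 = 0 by linear_combination h6)).resolve_left hne
    have e0 : x 0 = 0 := by
      rw [e1, e2, e3] at h0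
      have : x 0 * x 0 = 0 := by linear_combination h0
      exact mul_self_eq_zero.1 this
    have e7 : x 7 = 0 := by
      rw [e4, e5, e6] at h7
      have : x 7 * x 7 = 0 := by linear_combination h7
      exact mul_self_eq_zero.1 this
    ext i
    fin_cases i <;> simp [e0, e1, e2, e3, e4, e5, e6, e7]
  refine ⟨by linear_combination hz, by linear_combination h0⟩

theorem card_le_mul {Γ : Type*} [Group Γ] [Finite Γ] (K H : Subgroup Γ) {X : Type*} [Finite X] (f : K → X)
    (hf : ∀ g g' : K, f g = f g' → (g : Γ)⁻¹ * (g' : Γ) ∈ H) : Nat.card K ≤ Nat.card X * Nat.card H := by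
  rw [← (H.subgroupOf K).index_mul_card]
  refine Nat.mul_le_mul ?_ ?_
  · rw [Subgroup.index_eq_card]
    refine Nat.card_le_card_of_injective (fun q : K ⧸ H.subgroupOf K => f q.out) ?_
    intro q q' hqq
    have h1 := hf _ _ hqq
    rw [← QuotientGroup.out_eq' q, ← QuotientGroup.out_eq' q', QuotientGroup.eq]
    rw [Subgroup.mem_subgroupOf]
    exact h1
  · refine Nat.card_le_card_of_injective (fun x : H.subgroupOf K => (⟨x.1.1, x.2⟩ : H)) ?_
    intro x y hxy
    have h1 : x.1.1 = y.1.1 := congrArg (fun z : H => (z : Γ)) hxy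
    exact Subtype.ext (Subtype.ext h1)

/-- the action -/
def act (g : GL (Fin 8) F) (v : Fin 8 → F) : Fin 8 → F := (g : Matrix (Fin 8) (Fin 8) F) *ᵥ v

theorem act_one (v : Fin 8 → F) : act (1 : GL (Fin 8) F) v = v := by simp [act]

theorem act_mul (g h : GL (Fin 8) F) (v : Fin 8 → F) : act (g * h) v = act g (act h v) := by
  simp [act, Matrix.mulVec_mulVec]

theorem act_inv_eq {g : GL (Fin 8) F} {v w : Fin 8 → F} (h : act g v = w) : act g⁻¹ w = v := by
  rw [← h, ← act_mul, inv_mul_cancel, act_one]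

theorem act_zorn {g : GL (Fin 8) F} (hg : g ∈ Cfsg.Lie.G2 F) (x y : Fin 8 → F) :
    act g (zornMul x y) = zornMul (act g x) (act g y) := hg x y

theorem act_add (g : GL (Fin 8) F) (x y : Fin 8 → F) : act g (x + y) = act g x + act g y := by
  simp [act, Matrix.mulVec_add]

theorem act_zero (g : GL (Fin 8) F) : act g (0 : Fin 8 → F) = 0 := by simp [act]

theorem act_ne_zero (g : GL (Fin 8) F) {v : Fin 8 → F} (hv : v ≠ 0) : act g v ≠ 0 := by
  intro h
  apply hv
  have := act_inv_eq h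
  rw [act_zero] at this
  exact this.symm

theorem bas_ne_zero (i : Fin 8) : bas F i ≠ 0 := by
  intro h
  have := congrFun h i
  simp [bas] at this

/-- the unit of Zorn's algebra -/
def uno (F : Type*) [Field F] : Fin 8 → F := ![1, 0, 0, 0, 0, 0, 0, 1]

theorem uno_mul (y : Fin 8 → F) : zornMul (uno F) y = y := by
  rw [zorn_apply]
  ext i
  fin_cases i <;> simp [uno]

theorem mul_uno (y : Fin 8 → F) : zornMul y (uno F) = y := by
  rw [zorn_apply]
  ext i
  fin_cases i <;> simp [uno]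

theorem act_uno {g : GL (Fin 8) F} (hg : g ∈ Cfsg.Lie.G2 F) : act g (uno F) = uno F := by
  have h1 : zornMul (act g (uno F)) (act g (act g⁻¹ (uno F))) = act g (act g⁻¹ (uno F)) := by
    rw [← act_zorn hg, uno_mul]
  rw [← act_mul, mul_inv_cancel, act_one, mul_uno] at h1
  exact h1

/-- stabiliser of a vector in `G2 F` -/
def st1 (F : Type*) [Field F] : Subgroup (GL (Fin 8) F) where
  carrier := {g | g ∈ Cfsg.Lie.G2 F ∧ act g (bas F 1) = bas F 1}
  mul_mem' {g h} hg hh := ⟨mul_mem hg.1 hh.1, by rw [act_mul, hh.2, hg.2]⟩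
  one_mem' := ⟨one_mem _, act_one _⟩
  inv_mem' {g} hg := ⟨inv_mem hg.1, act_inv_eq hg.2⟩

/-- stabiliser of two vectors in `G2 F` -/
def st2 (F : Type*) [Field F] : Subgroup (GL (Fin 8) F) where
  carrier := {g | g ∈ Cfsg.Lie.G2 F ∧ act g (bas F 1) = bas F 1 ∧ act g (bas F 2) = bas F 2}
  mul_mem' {g h} hg hh := ⟨mul_mem hg.1 hh.1, by rw [act_mul, hh.2.1, hg.2.1], by rw [act_mul, hh.2.2, hg.2.2]⟩
  one_mem' := ⟨one_mem _, act_one _, act_one _⟩
  inv_mem' {g} hg := ⟨inv_mem hg.1, act_inv_eq hg.2.1, act_inv_eq hg.2.2⟩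

/-- nonzero square zero vectors -/
abbrev S1 (F : Type*) [Field F] := {x : Fin 8 → F // x ≠ 0 ∧ zornMul x x = 0}

abbrev X1 (F : Type*) [Field F] := ({a : Fin 3 → F // a ≠ 0} × F × F × F) ⊕ {b : Fin 3 → F // b ≠ 0}

theorem S1_b {x : Fin 8 → F} (hx : x ≠ 0 ∧ zornMul x x = 0) (ha : ¬ (![x 1, x 2, x 3] : Fin 3 → F) ≠ 0) :
    (![x 4, x 5, x 6] : Fin 3 → F) ≠ 0 := by
  intro hb
  push Not at ha
  have a0 := congrFun ha 0
  have a1 := congrFun ha 1
  have a2 := congrFun ha 2
  have b0 := congrFun hb 0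
  have b1 := congrFun hb 1
  have b2 := congrFun hb 2
  simp at a0 a1 a2 b0 b1 b2
  obtain ⟨h7, h0⟩ := sq_zero hx.1 hx.2
  rw [a0, a1, a2] at h0
  have e0 : x 0 = 0 := by
    have : x 0 ^ 2 = 0 := by linear_combination h0
    exact pow_eq_zero_iff (two_ne_zero) |>.1 this
  apply hx.1
  ext i
  fin_cases i <;> simp [e0, a0, a1, a2, b0, b1, b2, h7]

open Classical in
/-- coding of `S1` -/
noncomputable def code1 (x : S1 F) : X1 F :=
  if ha : (![x.1 1, x.1 2, x.1 3] : Fin 3 → F) ≠ 0 then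
    Sum.inl (⟨_, ha⟩, x.1 0,
      (if x.1 1 ≠ 0 then (x.1 5, x.1 6) else if x.1 2 ≠ 0 then (x.1 4, x.1 6) else (x.1 4, x.1 5)))
  else Sum.inr ⟨_, S1_b x.2 ha⟩

theorem code1_injective : Function.Injective (code1 (F := F)) := by
  classical
  rintro ⟨x, hx⟩ ⟨y, hy⟩ h
  obtain ⟨x7, x0⟩ := sq_zero hx.1 hx.2
  obtain ⟨y7, y0⟩ := sq_zero hy.1 hy.2
  apply Subtype.ext
  unfold code1 at h
  by_cases ha : (![x 1, x 2, x 3] : Fin 3 → F) ≠ 0
  · by_cases hb : (![y 1, y 2, y 3] : Fin 3 → F) ≠ 0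
    · simp only [dif_pos ha, dif_pos hb] at h
      have h' := Sum.inl.inj h
      rw [Prod.mk.injEq, Prod.mk.injEq] at h'
      obtain ⟨h1, h2, h3⟩ := h'
      have h1' := congrArg Subtype.val h1
      have e1 := congrFun h1' 0
      have e2 := congrFun h1' 1
      have e3 := congrFun h1' 2
      simp at e1 e2 e3
      simp only [e1, e2] at h3
      rw [h2, e1, e2, e3] at x0
      have key : x 4 = y 4 ∧ x 5 = y 5 ∧ x 6 = y 6 := by
        by_cases c1 : y 1 = 0
        · by_cases c2 : y 2 = 0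
          · simp [c1, c2] at h3
            have c3 : y 3 ≠ 0 := by
              intro c3
              apply hb
              ext i
              fin_cases i <;> simp [c1, c2, c3]
            refine ⟨h3.1, h3.2, ?_⟩
            rw [c1, c2] at x0 y0
            have : y 3 * (x 6 - y 6) = 0 := by linear_combination x0 - y0
            exact sub_eq_zero.1 ((mul_eq_zero.1 this).resolve_left c3)
          · simp [c1, c2] at h3
            refine ⟨h3.1, ?_, h3.2⟩
            rw [c1, h3.2] at x0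
            rw [c1] at y0
            have : y 2 * (x 5 - y 5) = 0 := by linear_combination x0 - y0
            exact sub_eq_zero.1 ((mul_eq_zero.1 this).resolve_left c2)
        · simp [c1] at h3
          refine ⟨?_, h3.1, h3.2⟩
          rw [h3.1, h3.2] at x0
          have : y 1 * (x 4 - y 4) = 0 := by linear_combination x0 - y0
          exact sub_eq_zero.1 ((mul_eq_zero.1 this).resolve_left c1)
      ext i
      fin_cases i <;> simp [h2, e1, e2, e3, key, x7, y7]
    · simp only [dif_pos ha, dif_neg hb] at h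
      exact absurd h (by simp)
  · by_cases hb : (![y 1, y 2, y 3] : Fin 3 → F) ≠ 0
    · simp only [dif_neg ha, dif_pos hb] at h
      exact absurd h (by simp)
    · simp only [dif_neg ha, dif_neg hb] at h
      have h' := Sum.inr.inj h
      have h1' := congrArg Subtype.val h'
      have e4 := congrFun h1' 0
      have e5 := congrFun h1' 1
      have e6 := congrFun h1' 2
      simp at e4 e5 e6
      push Not at ha hb
      have a1 := congrFun ha 0
      have a2 := congrFun ha 1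
      have a3 := congrFun ha 2
      have b1 := congrFun hb 0
      have b2 := congrFun hb 1
      have b3 := congrFun hb 2
      simp at a1 a2 a3 b1 b2 b3
      rw [a1, a2, a3] at x0
      rw [b1, b2, b3] at y0
      have ex : x 0 = 0 := pow_eq_zero_iff (two_ne_zero) |>.1 (show x 0 ^ 2 = 0 by linear_combination x0)
      have ey : y 0 = 0 := pow_eq_zero_iff (two_ne_zero) |>.1 (show y 0 ^ 2 = 0 by linear_combination y0)
      ext i
      fin_cases i <;> simp [ex, ey, a1, a2, a3, b1, b2, b3, e4, e5, e6, x7, y7]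

/-- the image of `A₁` -/
def f1 (g : Cfsg.Lie.G2 F) : S1 F := ⟨act g.1 (bas F 1), act_ne_zero _ (bas_ne_zero 1), by
  rw [← act_zorn g.2, A1_mul]
  have : (![bas F 1 4, bas F 1 7, 0, 0, 0, - bas F 1 3, bas F 1 2, 0] : Fin 8 → F) = 0 := by
    ext i
    fin_cases i <;> simp [bas]
  rw [this, act_zero]⟩

/-- vectors which can be the image of `A₂` under an automorphism fixing `A₁` -/
abbrev S2 (F : Type*) [Field F] := {y : Fin 8 → F // zornMul y y = 0 ∧
  zornMul (bas F 1) y + zornMul y (bas F 1) = 0 ∧ zornMul (bas F 1) y ≠ 0}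

theorem S2_eqs {y : Fin 8 → F} (hy : zornMul y y = 0 ∧
    zornMul (bas F 1) y + zornMul y (bas F 1) = 0 ∧ zornMul (bas F 1) y ≠ 0) :
    y 4 = 0 ∧ y 7 = - y 0 ∧ y 0 ^ 2 + (y 2 * y 5 + y 3 * y 6) = 0 ∧ (![y 2, y 3] : Fin 2 → F) ≠ 0 := by
  obtain ⟨h1, h2, h3⟩ := hy
  rw [A1_mul, mul_A1] at h2
  rw [A1_mul] at h3
  have e0 := congrFun h2 0
  have e1 := congrFun h2 1
  simp at e0 e1
  have hy0 : y ≠ 0 := by
    rintro rfl
    apply h3
    ext i
    fin_cases i <;> simp
  obtain ⟨h7, h0⟩ := sq_zero hy0 h1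
  rw [e0] at h0
  refine ⟨e0, h7, by linear_combination h0, ?_⟩
  intro h
  have h2' := congrFun h 0
  have h3' := congrFun h 1
  simp at h2' h3'
  rw [h2', h3'] at h0
  have ey : y 0 = 0 := pow_eq_zero_iff (two_ne_zero) |>.1 (show y 0 ^ 2 = 0 by linear_combination h0)
  apply h3
  ext i
  fin_cases i <;> simp [e0, h7, ey, h2', h3']

abbrev X2 (F : Type*) [Field F] := F × {c : Fin 2 → F // c ≠ 0} × F × F

open Classical in
/-- coding of `S2` -/
noncomputable def code2 (y : S2 F) : X2 F :=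
  (y.1 1, ⟨_, (S2_eqs y.2).2.2.2⟩, y.1 0, if y.1 2 ≠ 0 then y.1 6 else y.1 5)

theorem code2_injective : Function.Injective (code2 (F := F)) := by
  classical
  rintro ⟨x, hx⟩ ⟨y, hy⟩ h
  obtain ⟨x4, x7, x0, xn⟩ := S2_eqs hx
  obtain ⟨y4, y7, y0, yn⟩ := S2_eqs hy
  apply Subtype.ext
  unfold code2 at h
  rw [Prod.mk.injEq, Prod.mk.injEq, Prod.mk.injEq] at h
  obtain ⟨h1, h2, h3, h4⟩ := h
  have h2' := congrArg Subtype.val h2
  have e2 := congrFun h2' 0
  have e3 := congrFun h2' 1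
  simp at h1 e2 e3 h3
  simp only [e2] at h4
  rw [h3, e2, e3] at x0
  have key : x 5 = y 5 ∧ x 6 = y 6 := by
    by_cases c2 : y 2 = 0
    · simp [c2] at h4
      have c3 : y 3 ≠ 0 := by
        intro c3
        apply yn
        ext i
        fin_cases i <;> simp [c2, c3]
      refine ⟨h4, ?_⟩
      rw [c2] at x0 y0
      have : y 3 * (x 6 - y 6) = 0 := by linear_combination x0 - y0
      exact sub_eq_zero.1 ((mul_eq_zero.1 this).resolve_left c3)
    · simp [c2] at h4
      refine ⟨?_, h4⟩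
      rw [h4] at x0
      have : y 2 * (x 5 - y 5) = 0 := by linear_combination x0 - y0
      exact sub_eq_zero.1 ((mul_eq_zero.1 this).resolve_left c2)
  ext i
  fin_cases i <;> simp [h1, e2, e3, h3, key, x4, y4, x7, y7]

theorem A1_A2 : zornMul (bas F 1) (bas F 2) = bas F 6 := by
  rw [A1_mul]
  ext i
  fin_cases i <;> simp [bas]

theorem A2_A2 : zornMul (bas F 2) (bas F 2) = 0 := by
  rw [A2_mul]
  ext i
  fin_cases i <;> simp [bas]

theorem A1_A2' : zornMul (bas F 1) (bas F 2) + zornMul (bas F 2) (bas F 1) = 0 := by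
  rw [A1_mul, mul_A1]
  ext i
  fin_cases i <;> simp [bas]

/-- the image of `A₂` under an automorphism fixing `A₁` -/
def f2 (g : st1 F) : S2 F := ⟨act g.1 (bas F 2), by
    rw [← act_zorn g.2.1, A2_A2, act_zero], by
    have h := congrArg (act g.1) (A1_A2' (F := F))
    rw [act_add, act_zorn g.2.1, act_zorn g.2.1, g.2.2, act_zero] at h
    exact h, by
    have h := congrArg (act g.1) (A1_A2 (F := F))
    rw [act_zorn g.2.1, g.2.2] at h
    rw [h]
    exact act_ne_zero _ (bas_ne_zero 6)⟩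

theorem A3_A3 : zornMul (bas F 3) (bas F 3) = 0 := by
  rw [zorn_apply]
  ext i
  fin_cases i <;> simp [bas]

theorem A1_A3' : zornMul (bas F 1) (bas F 3) + zornMul (bas F 3) (bas F 1) = 0 := by
  rw [A1_mul, mul_A1]
  ext i
  fin_cases i <;> simp [bas]

theorem A2_A3' : zornMul (bas F 2) (bas F 3) + zornMul (bas F 3) (bas F 2) = 0 := by
  rw [A2_mul, mul_A2]
  ext i
  fin_cases i <;> simp [bas]

theorem B3_A3' : zornMul (bas F 6) (bas F 3) + zornMul (bas F 3) (bas F 6) = uno F := by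
  rw [B3_mul, mul_B3]
  ext i
  fin_cases i <;> simp [bas, uno]

theorem A2_A3 : zornMul (bas F 2) (bas F 3) = bas F 4 := by
  rw [A2_mul]
  ext i
  fin_cases i <;> simp [bas]

theorem A3_A1 : zornMul (bas F 3) (bas F 1) = bas F 5 := by
  rw [mul_A1]
  ext i
  fin_cases i <;> simp [bas]

theorem A1_B1 : zornMul (bas F 1) (bas F 4) = bas F 0 := by
  rw [A1_mul]
  ext i
  fin_cases i <;> simp [bas]

theorem B1_A1 : zornMul (bas F 4) (bas F 1) = bas F 7 := by
  rw [mul_A1]
  ext i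
  fin_cases i <;> simp [bas]

/-- the image of `A₃` under an automorphism fixing `A₁`, `A₂` -/
theorem f3_eqs {g : GL (Fin 8) F} (hg : g ∈ st2 F) :
    act g (bas F 3) 4 = 0 ∧ act g (bas F 3) 5 = 0 ∧ act g (bas F 3) 7 = - act g (bas F 3) 0 ∧
    act g (bas F 3) 3 = 1 ∧ act g (bas F 3) 6 = - act g (bas F 3) 0 ^ 2 := by
  obtain ⟨hg0, hg1, hg2⟩ := hg
  have hB : act g (bas F 6) = bas F 6 := by
    rw [← A1_A2, act_zorn hg0, hg1, hg2]
  have k1 := congrArg (act g) (A1_A3' (F := F))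
  rw [act_add, act_zorn hg0, act_zorn hg0, hg1, act_zero] at k1
  have k2 := congrArg (act g) (A2_A3' (F := F))
  rw [act_add, act_zorn hg0, act_zorn hg0, hg2, act_zero] at k2
  have k3 := congrArg (act g) (B3_A3' (F := F))
  rw [act_add, act_zorn hg0, act_zorn hg0, hB, act_uno hg0] at k3
  have k4 := congrArg (act g) (A3_A3 (F := F))
  rw [act_zorn hg0, act_zero] at k4
  obtain ⟨h7, h0⟩ := sq_zero (act_ne_zero g (bas_ne_zero 3)) k4
  set z := act g (bas F 3) with hz
  rw [A1_mul, mul_A1] at k1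
  rw [A2_mul, mul_A2] at k2
  rw [B3_mul, mul_B3] at k3
  have e4 := congrFun k1 0
  have e5 := congrFun k2 0
  have e3 := congrFun k3 0
  simp [uno] at e4 e5 e3
  refine ⟨e4, e5, h7, e3, ?_⟩
  rw [e4, e5, e3] at h0
  linear_combination h0

/-- coding -/
def f3 (g : st2 F) : F × F × F := (act g.1 (bas F 3) 0, act g.1 (bas F 3) 1, act g.1 (bas F 3) 2)

theorem act_f3 {g g' : st2 F} (h : f3 g = f3 g') : act g.1 (bas F 3) = act g'.1 (bas F 3) := by
  obtain ⟨a4, a5, a7, a3, a6⟩ := f3_eqs g.2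
  obtain ⟨b4, b5, b7, b3, b6⟩ := f3_eqs g'.2
  unfold f3 at h
  rw [Prod.mk.injEq, Prod.mk.injEq] at h
  obtain ⟨h0, h1, h2⟩ := h
  ext i
  fin_cases i
  · exact h0
  · exact h1
  · exact h2
  · exact a3.trans b3.symm
  · exact a4.trans b4.symm
  · exact a5.trans b5.symm
  · show act g.1 (bas F 3) 6 = act g'.1 (bas F 3) 6
    rw [a6, b6, h0]
  · show act g.1 (bas F 3) 7 = act g'.1 (bas F 3) 7
    rw [a7, b7, h0]

theorem eq_one {g : GL (Fin 8) F} (hg : g ∈ Cfsg.Lie.G2 F) (h1 : act g (bas F 1) = bas F 1)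
    (h2 : act g (bas F 2) = bas F 2) (h3 : act g (bas F 3) = bas F 3) : g = 1 := by
  have h6 : act g (bas F 6) = bas F 6 := by rw [← A1_A2, act_zorn hg, h1, h2]
  have h4 : act g (bas F 4) = bas F 4 := by rw [← A2_A3, act_zorn hg, h2, h3]
  have h5 : act g (bas F 5) = bas F 5 := by rw [← A3_A1, act_zorn hg, h3, h1]
  have h0 : act g (bas F 0) = bas F 0 := by rw [← A1_B1, act_zorn hg, h1, h4]
  have h7 : act g (bas F 7) = bas F 7 := by rw [← B1_A1, act_zorn hg, h4, h1]
  have hall : ∀ i, act g (bas F i) = bas F i := by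
    intro i
    fin_cases i
    · exact h0
    · exact h1
    · exact h2
    · exact h3
    · exact h4
    · exact h5
    · exact h6
    · exact h7
  apply Units.ext
  ext i j
  have := congrFun (hall j) i
  simp only [act, bas, Matrix.mulVec_single_one, Matrix.col_apply] at this
  rw [this, Units.val_one, Matrix.one_apply]
  by_cases hij : i = j
  · simp [hij]
  · simp [hij]

theorem card_ne_zero [Finite F] (n : ℕ) : Nat.card {a : Fin n → F // a ≠ 0} = Nat.card F ^ n - 1 := by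
  have h : Nat.card (Fin n → F) = Nat.card F ^ n := by
    rw [Nat.card_fun, Nat.card_fin]
  have : Fintype F := Fintype.ofFinite F
  classical
  rw [← h, Nat.card_eq_fintype_card, Nat.card_eq_fintype_card]
  exact Set.card_ne_eq (0 : Fin n → F)

/-- **The order of the octonion automorphism group is at most `q⁶ (q² - 1) (q⁶ - 1)`.** -/
theorem card_G2_le [Finite F] :
    Nat.card (Cfsg.Lie.G2 F) ≤ Nat.card F ^ 6 * (Nat.card F ^ 2 - 1) * (Nat.card F ^ 6 - 1) := by
  have c1 : Nat.card (Cfsg.Lie.G2 F) ≤ Nat.card (X1 F) * Nat.card (st1 F) := by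
    refine card_le_mul (Cfsg.Lie.G2 F) (st1 F) (fun g => code1 (f1 g)) ?_
    intro g g' h
    have h1 : act g.1 (bas F 1) = act g'.1 (bas F 1) := congrArg Subtype.val (code1_injective h)
    exact ⟨mul_mem (inv_mem g.2) g'.2, by rw [act_mul, ← h1, ← act_mul, inv_mul_cancel, act_one]⟩
  have c2 : Nat.card (st1 F) ≤ Nat.card (X2 F) * Nat.card (st2 F) := by
    refine card_le_mul (st1 F) (st2 F) (fun g => code2 (f2 g)) ?_
    intro g g' h
    have h1 : act g.1 (bas F 2) = act g'.1 (bas F 2) := congrArg Subtype.val (code2_injective h)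
    have hm := mul_mem (inv_mem g.2) g'.2
    exact ⟨hm.1, hm.2, by rw [act_mul, ← h1, ← act_mul, inv_mul_cancel, act_one]⟩
  have c3 : Nat.card (st2 F) ≤ Nat.card (F × F × F) * Nat.card (⊥ : Subgroup (GL (Fin 8) F)) := by
    refine card_le_mul (st2 F) ⊥ f3 ?_
    intro g g' h
    have h1 := act_f3 h
    have hm := mul_mem (inv_mem g.2) g'.2
    exact Subgroup.mem_bot.2
      (eq_one hm.1 hm.2.1 hm.2.2 (by rw [act_mul, ← h1, ← act_mul, inv_mul_cancel, act_one]))
  have n1 : Nat.card (X1 F) = Nat.card F ^ 6 - 1 := by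
    have hq : 1 ≤ Nat.card F ^ 3 := Nat.one_le_pow _ _ Nat.card_pos
    rw [Nat.card_sum, Nat.card_prod, Nat.card_prod, Nat.card_prod, card_ne_zero]
    have hq6 : 1 ≤ Nat.card F ^ 6 := Nat.one_le_pow _ _ Nat.card_pos
    zify [hq, hq6]
    ring
  have n2 : Nat.card (X2 F) = Nat.card F ^ 3 * (Nat.card F ^ 2 - 1) := by
    rw [Nat.card_prod, Nat.card_prod, Nat.card_prod, card_ne_zero]
    ring
  have n3 : Nat.card (F × F × F) * Nat.card (⊥ : Subgroup (GL (Fin 8) F)) = Nat.card F ^ 3 := by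
    rw [Nat.card_prod, Nat.card_prod, Subgroup.card_bot]
    ring
  rw [n1] at c1
  rw [n2] at c2
  rw [n3] at c3
  calc Nat.card (Cfsg.Lie.G2 F) ≤ (Nat.card F ^ 6 - 1) * Nat.card (st1 F) := c1
    _ ≤ (Nat.card F ^ 6 - 1) * (Nat.card F ^ 3 * (Nat.card F ^ 2 - 1) * Nat.card (st2 F)) :=
        Nat.mul_le_mul_left _ c2
    _ ≤ (Nat.card F ^ 6 - 1) * (Nat.card F ^ 3 * (Nat.card F ^ 2 - 1) * Nat.card F ^ 3) :=
        Nat.mul_le_mul_left _ (Nat.mul_le_mul_left _ c3)
    _ = _ := by ring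

end Cfsg.Agent.H638.G2Ord
end

-- part: H638/G2Iso
section
/-!
# `Cfsg.Lie.G2 F` (automorphisms of the split octonions) is the Chevalley group `chevG2.group F`

* `equiv`: `Nonempty (Cfsg.Lie.G2 F ≃* chevG2.group F)` for every finite field `F`;
* `card_G2`: the order of `Cfsg.Lie.G2 F`;
* `isoG2_iff`: `Cfsg.Lie.IsoG2 G ↔ Cfsg.Lie.IsoChevG2 G`.
-/

set_option autoImplicit false

namespace Cfsg.Agent.H638.G2Iso

open Cfsg.Lie

variable {F : Type*} [Field F]

/-- **The octonion automorphism group over a finite field is isomorphic to the Chevalley group of type `G₂`.** -/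
theorem equiv [Finite F] : Nonempty (Cfsg.Lie.G2 F ≃* chevG2.group F) := by
  have : Fintype F := Fintype.ofFinite F
  refine G2Link.nonempty_equiv ?_
  rw [Cfsg.Agent.S1059.result (F := F) (q := Nat.card F) Nat.card_eq_fintype_card.symm]
  exact G2Ord.card_G2_le

/-- the order of the octonion automorphism group -/
theorem card_G2 [Finite F] :
    Nat.card (Cfsg.Lie.G2 F) = Nat.card F ^ 6 * (Nat.card F ^ 2 - 1) * (Nat.card F ^ 6 - 1) := by
  have : Fintype F := Fintype.ofFinite F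
  obtain ⟨e⟩ := equiv (F := F)
  rw [Nat.card_congr e.toEquiv, Cfsg.Agent.S1059.result (F := F) (q := Nat.card F) Nat.card_eq_fintype_card.symm]

/-- The two definitions of the family `G₂(q)`, `q ≥ 3`, agree. -/
theorem isoG2_iff {G : Type*} [Group G] : Cfsg.Lie.IsoG2 G ↔ Cfsg.Lie.IsoChevG2 G := by
  constructor
  · rintro ⟨F, i1, i2, h3, ⟨e⟩⟩
    obtain ⟨f⟩ := equiv (F := F)
    exact ⟨F, i1, i2, h3, ⟨e.trans f⟩⟩
  · rintro ⟨F, i1, i2, h3, ⟨e⟩⟩
    obtain ⟨f⟩ := equiv (F := F)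
    exact ⟨F, i1, i2, h3, ⟨e.trans f.symm⟩⟩

end Cfsg.Agent.H638.G2Iso
end
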