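import Cfsg.Agent.H638.G2Rep
set_option linter.all false

-- part: H638/G2Mem
section
/-!
# The root elements `y_r(t)` are automorphisms of Zorn's algebra
-/

set_option autoImplicit false
set_option linter.unnecessarySeqFocus false

namespace Cfsg.Agent.H638.G2Mem

open Cfsg.Lie Matrix Cfsg.Agent.H638.G2Rep

variable {R : Type*} [CommRing R]

theorem ev_mulVec (t : R) (A : SP) (x : Fin 8 → R) (i : Fin 8) :
    (ev t A *ᵥ x) i = (A.map fun p => if p.2.1 = i then ((p.2.2.2 : ℤ) : R) * t ^ p.1 * x p.2.2.1 else 0).sum := by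
  induction A with
  | nil => simp [ev_nil]
  | cons p A ih =>
    rw [ev_cons, Matrix.add_mulVec, Pi.add_apply, ih, List.map_cons, List.sum_cons]
    congr 1
    simp only [term]
    rw [Matrix.single_mulVec]
    by_cases h : p.2.1 = i
    · simp [h]
    · simp [h, Function.update_of_ne (Ne.symm h)]

theorem mulVec_0 (t : R) (x : Fin 8 → R) : ev t (tabY.getD 0 []) *ᵥ x =
    ![x 0, x 1, x 2, x 3 - t * x 2, x 4, x 5 + t * x 6, x 6, x 7] := by
  ext i
  rw [ev_mulVec]
  fin_cases i <;> simp [tabY] <;> ring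

theorem mulVec_1 (t : R) (x : Fin 8 → R) : ev t (tabY.getD 1 []) *ᵥ x =
    ![x 0, x 1, x 2, x 3 - t * x 1, x 4 + t * x 6, x 5, x 6, x 7] := by
  ext i
  rw [ev_mulVec]
  fin_cases i <;> simp [tabY] <;> ring

theorem mulVec_2 (t : R) (x : Fin 8 → R) : ev t (tabY.getD 2 []) *ᵥ x =
    ![x 0 - t * x 6, x 1, x 2, x 3 + t * x 0 - t * x 7 - t ^ 2 * x 6, x 4 - t * x 2, x 5 + t * x 1, x 6, x 7 + t * x 6] := by
  ext i
  rw [ev_mulVec]
  fin_cases i <;> simp [tabY] <;> ring

theorem mulVec_3 (t : R) (x : Fin 8 → R) : ev t (tabY.getD 3 []) *ᵥ x =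
    ![x 0 - t * x 2, x 1 + t * x 6, x 2, x 3 - t * x 4, x 4, x 5 + t * x 0 - t * x 7 - t ^ 2 * x 2, x 6, x 7 + t * x 2] := by
  ext i
  rw [ev_mulVec]
  fin_cases i <;> simp [tabY] <;> ring

theorem mulVec_4 (t : R) (x : Fin 8 → R) : ev t (tabY.getD 4 []) *ᵥ x =
    ![x 0 - t * x 1, x 1, x 2 - t * x 6, x 3 + t * x 5, x 4 + t * x 0 - t * x 7 - t ^ 2 * x 1, x 5, x 6, x 7 + t * x 1] := by
  ext i
  rw [ev_mulVec]
  fin_cases i <;> simp [tabY] <;> ring

theorem mulVec_5 (t : R) (x : Fin 8 → R) : ev t (tabY.getD 5 []) *ᵥ x =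
    ![x 0, x 1 + t * x 2, x 2, x 3, x 4, x 5 - t * x 4, x 6, x 7] := by
  ext i
  rw [ev_mulVec]
  fin_cases i <;> simp [tabY] <;> ring

theorem mulVec_6 (t : R) (x : Fin 8 → R) : ev t (tabY.getD 6 []) *ᵥ x =
    ![x 0, x 1, x 2 + t * x 1, x 3, x 4 - t * x 5, x 5, x 6, x 7] := by
  ext i
  rw [ev_mulVec]
  fin_cases i <;> simp [tabY] <;> ring

theorem mulVec_7 (t : R) (x : Fin 8 → R) : ev t (tabY.getD 7 []) *ᵥ x =
    ![x 0 + t * x 4, x 1 - t * x 0 + t * x 7 - t ^ 2 * x 4, x 2, x 3, x 4, x 5 + t * x 3, x 6 - t * x 2, x 7 - t * x 4] := by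
  ext i
  rw [ev_mulVec]
  fin_cases i <;> simp [tabY] <;> ring

theorem mulVec_8 (t : R) (x : Fin 8 → R) : ev t (tabY.getD 8 []) *ᵥ x =
    ![x 0 + t * x 5, x 1, x 2 - t * x 0 + t * x 7 - t ^ 2 * x 5, x 3, x 4 - t * x 3, x 5, x 6 + t * x 1, x 7 - t * x 5] := by
  ext i
  rw [ev_mulVec]
  fin_cases i <;> simp [tabY] <;> ring

theorem mulVec_9 (t : R) (x : Fin 8 → R) : ev t (tabY.getD 9 []) *ᵥ x =
    ![x 0 + t * x 3, x 1 + t * x 5, x 2 - t * x 4, x 3, x 4, x 5, x 6 - t * x 0 + t * x 7 - t ^ 2 * x 3, x 7 - t * x 3] := by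
  ext i
  rw [ev_mulVec]
  fin_cases i <;> simp [tabY] <;> ring

theorem mulVec_10 (t : R) (x : Fin 8 → R) : ev t (tabY.getD 10 []) *ᵥ x =
    ![x 0, x 1 - t * x 3, x 2, x 3, x 4, x 5, x 6 + t * x 4, x 7] := by
  ext i
  rw [ev_mulVec]
  fin_cases i <;> simp [tabY] <;> ring

theorem mulVec_11 (t : R) (x : Fin 8 → R) : ev t (tabY.getD 11 []) *ᵥ x =
    ![x 0, x 1, x 2 - t * x 3, x 3, x 4, x 5, x 6 + t * x 5, x 7] := by
  ext i
  rw [ev_mulVec]
  fin_cases i <;> simp [tabY] <;> ring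

theorem zorn_apply (x y : Fin 8 → R) : zornMul x y = ![
    x 0 * y 0 + (x 1 * y 4 + x 2 * y 5 + x 3 * y 6),
    x 0 * y 1 + y 7 * x 1 - (x 5 * y 6 - x 6 * y 5),
    x 0 * y 2 + y 7 * x 2 - (x 6 * y 4 - x 4 * y 6),
    x 0 * y 3 + y 7 * x 3 - (x 4 * y 5 - x 5 * y 4),
    y 0 * x 4 + x 7 * y 4 + (x 2 * y 3 - x 3 * y 2),
    y 0 * x 5 + x 7 * y 5 + (x 3 * y 1 - x 1 * y 3),
    y 0 * x 6 + x 7 * y 6 + (x 1 * y 2 - x 2 * y 1),
    (x 4 * y 1 + x 5 * y 2 + x 6 * y 3) + x 7 * y 7] := by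
  ext i
  fin_cases i <;> simp [zornMul, dot3, cross3]

theorem zorn_0 (t : R) (x y : Fin 8 → R) : ev t (tabY.getD 0 []) *ᵥ zornMul x y =
    zornMul (ev t (tabY.getD 0 []) *ᵥ x) (ev t (tabY.getD 0 []) *ᵥ y) := by
  rw [mulVec_0, mulVec_0, mulVec_0, zorn_apply, zorn_apply]
  ext i
  fin_cases i <;> simp <;> ring

theorem zorn_1 (t : R) (x y : Fin 8 → R) : ev t (tabY.getD 1 []) *ᵥ zornMul x y =
    zornMul (ev t (tabY.getD 1 []) *ᵥ x) (ev t (tabY.getD 1 []) *ᵥ y) := by
  rw [mulVec_1, mulVec_1, mulVec_1, zorn_apply, zorn_apply]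
  ext i
  fin_cases i <;> simp <;> ring

theorem zorn_2 (t : R) (x y : Fin 8 → R) : ev t (tabY.getD 2 []) *ᵥ zornMul x y =
    zornMul (ev t (tabY.getD 2 []) *ᵥ x) (ev t (tabY.getD 2 []) *ᵥ y) := by
  rw [mulVec_2, mulVec_2, mulVec_2, zorn_apply, zorn_apply]
  ext i
  fin_cases i <;> simp <;> ring

theorem zorn_3 (t : R) (x y : Fin 8 → R) : ev t (tabY.getD 3 []) *ᵥ zornMul x y =
    zornMul (ev t (tabY.getD 3 []) *ᵥ x) (ev t (tabY.getD 3 []) *ᵥ y) := by
  rw [mulVec_3, mulVec_3, mulVec_3, zorn_apply, zorn_apply]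
  ext i
  fin_cases i <;> simp <;> ring

theorem zorn_4 (t : R) (x y : Fin 8 → R) : ev t (tabY.getD 4 []) *ᵥ zornMul x y =
    zornMul (ev t (tabY.getD 4 []) *ᵥ x) (ev t (tabY.getD 4 []) *ᵥ y) := by
  rw [mulVec_4, mulVec_4, mulVec_4, zorn_apply, zorn_apply]
  ext i
  fin_cases i <;> simp <;> ring

theorem zorn_5 (t : R) (x y : Fin 8 → R) : ev t (tabY.getD 5 []) *ᵥ zornMul x y =
    zornMul (ev t (tabY.getD 5 []) *ᵥ x) (ev t (tabY.getD 5 []) *ᵥ y) := by
  rw [mulVec_5, mulVec_5, mulVec_5, zorn_apply, zorn_apply]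
  ext i
  fin_cases i <;> simp <;> ring

theorem zorn_6 (t : R) (x y : Fin 8 → R) : ev t (tabY.getD 6 []) *ᵥ zornMul x y =
    zornMul (ev t (tabY.getD 6 []) *ᵥ x) (ev t (tabY.getD 6 []) *ᵥ y) := by
  rw [mulVec_6, mulVec_6, mulVec_6, zorn_apply, zorn_apply]
  ext i
  fin_cases i <;> simp <;> ring

theorem zorn_7 (t : R) (x y : Fin 8 → R) : ev t (tabY.getD 7 []) *ᵥ zornMul x y =
    zornMul (ev t (tabY.getD 7 []) *ᵥ x) (ev t (tabY.getD 7 []) *ᵥ y) := by
  rw [mulVec_7, mulVec_7, mulVec_7, zorn_apply, zorn_apply]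
  ext i
  fin_cases i <;> simp <;> ring

theorem zorn_8 (t : R) (x y : Fin 8 → R) : ev t (tabY.getD 8 []) *ᵥ zornMul x y =
    zornMul (ev t (tabY.getD 8 []) *ᵥ x) (ev t (tabY.getD 8 []) *ᵥ y) := by
  rw [mulVec_8, mulVec_8, mulVec_8, zorn_apply, zorn_apply]
  ext i
  fin_cases i <;> simp <;> ring

theorem zorn_9 (t : R) (x y : Fin 8 → R) : ev t (tabY.getD 9 []) *ᵥ zornMul x y =
    zornMul (ev t (tabY.getD 9 []) *ᵥ x) (ev t (tabY.getD 9 []) *ᵥ y) := by
  rw [mulVec_9, mulVec_9, mulVec_9, zorn_apply, zorn_apply]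
  ext i
  fin_cases i <;> simp <;> ring

theorem zorn_10 (t : R) (x y : Fin 8 → R) : ev t (tabY.getD 10 []) *ᵥ zornMul x y =
    zornMul (ev t (tabY.getD 10 []) *ᵥ x) (ev t (tabY.getD 10 []) *ᵥ y) := by
  rw [mulVec_10, mulVec_10, mulVec_10, zorn_apply, zorn_apply]
  ext i
  fin_cases i <;> simp <;> ring

theorem zorn_11 (t : R) (x y : Fin 8 → R) : ev t (tabY.getD 11 []) *ᵥ zornMul x y =
    zornMul (ev t (tabY.getD 11 []) *ᵥ x) (ev t (tabY.getD 11 []) *ᵥ y) := by
  rw [mulVec_11, mulVec_11, mulVec_11, zorn_apply, zorn_apply]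
  ext i
  fin_cases i <;> simp <;> ring

/-- the root elements preserve Zorn's product -/
theorem zorn_Y (r : Fin chevG2.nroots) (t : R) (x y : Fin 8 → R) : ev t (Y r) *ᵥ zornMul x y =
    zornMul (ev t (Y r) *ᵥ x) (ev t (Y r) *ᵥ y) := by
  have hr : r.val < 12 := r.2
  obtain ⟨r, hr'⟩ := r
  simp only at hr
  show ev t (tabY.getD r []) *ᵥ zornMul x y = zornMul (ev t (tabY.getD r []) *ᵥ x) (ev t (tabY.getD r []) *ᵥ y)
  interval_cases r
  · exact zorn_0 t x y
  · exact zorn_1 t x y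
  · exact zorn_2 t x y
  · exact zorn_3 t x y
  · exact zorn_4 t x y
  · exact zorn_5 t x y
  · exact zorn_6 t x y
  · exact zorn_7 t x y
  · exact zorn_8 t x y
  · exact zorn_9 t x y
  · exact zorn_10 t x y
  · exact zorn_11 t x y

end Cfsg.Agent.H638.G2Mem
end

-- part: H638/G2Link
section
/-!
# The group linking `Cfsg.Lie.G2 F` and `chevG2.group F`

`Link F ≤ GL₈(F) × GL₁₄(F)` is generated by the pairs `(y_r(t), x_r(t))`. The first projection is injective on it and
lands in `Cfsg.Lie.G2 F`; the second one maps it onto `chevG2.group F`.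
-/

set_option autoImplicit false

namespace Cfsg.Agent.H638.G2Link

open Cfsg.Lie Matrix Cfsg.Agent.H638.G2Rep Cfsg.Agent.H638.G2Mem

variable {F : Type*} [Field F]

theorem mem_allIdx (s : chevG2.Idx) : s ∈ allIdx := by
  rcases s with i | r
  · exact List.mem_append_left _ (List.mem_map.2 ⟨i, List.mem_finRange (n := 2) i, rfl⟩)
  · exact List.mem_append_right _ (List.mem_map.2 ⟨r, List.mem_finRange (n := 12) r, rfl⟩)

theorem sum_allIdx {M : Type*} [AddCommMonoid M] (f : chevG2.Idx → M) : (allIdx.map f).sum = ∑ u, f u := by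
  have h : allIdx = ((List.finRange chevG2.rank).map Sum.inl ++ (List.finRange chevG2.nroots).map Sum.inr :
      List chevG2.Idx) := rfl
  rw [Fintype.sum_sum_type, h, List.map_append, List.sum_append, List.map_map, List.map_map]
  congr 1

/-- the 14 matrices -/
def EM (F : Type*) [Field F] (s : chevG2.Idx) : Matrix (Fin 8) (Fin 8) F := ev (1 : F) (E s)

theorem bdd_E (s : chevG2.Idx) : ∀ p ∈ E s, p.1 < 1 := by
  have h := List.all_eq_true.1 chkE s (mem_allIdx s)
  simpa [bdd] using h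

theorem ev_E (t : F) (s : chevG2.Idx) : ev t (E s) = EM F s := by
  ext i j
  rw [EM, ev_apply t _ 1 (bdd_E s), ev_apply 1 _ 1 (bdd_E s)]
  simp

theorem EM_apply (s : chevG2.Idx) (i j : Fin 8) : EM F s i j = ((co (E s) 0 i j : ℤ) : F) := by
  rw [EM, ev_apply 1 _ 1 (bdd_E s)]
  simp

theorem ev_flatMap {α : Type*} (t : F) (L : List α) (f : α → SP) :
    ev t (L.flatMap f) = (L.map fun a => ev t (f a)).sum := by
  induction L with
  | nil => simp [ev_nil]
  | cons a L ih => rw [List.flatMap_cons, ev_append, ih, List.map_cons, List.sum_cons]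

theorem ev_colSP (t : F) (r : Fin chevG2.nroots) (s : chevG2.Idx) :
    ev t (colSP r s) = ∑ u, chevG2.xMat F r t u s • EM F u := by
  rw [colSP, ev_flatMap, sum_allIdx]
  refine Finset.sum_congr rfl fun u _ => ?_
  rw [ev_flatMap, xMat_apply]
  simp only [ev_smulSP, ev_E]
  rw [List.sum_smul, List.map_map]
  rfl

/-- the conjugation formula -/
theorem conj (t : F) (r : Fin chevG2.nroots) (s : chevG2.Idx) :
    ev t (Y r) * EM F s = (∑ u, chevG2.xMat F r t u s • EM F u) * ev t (Y r) := by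
  have h := List.all_eq_true.1 chkConj_all r (List.mem_finRange (n := 12) r)
  have h2 := List.all_eq_true.1 h s (mem_allIdx s)
  have h3 := ev_congr t h2
  rwa [ev_mulSP, ev_mulSP, ev_E, ev_colSP] at h3

theorem Y_mul_neg (t : F) (r : Fin chevG2.nroots) : ev t (Y r) * ev (-t) (Y r) = 1 := by
  have h := List.all_eq_true.1 chkInv r (List.mem_finRange (n := 12) r)
  have h2 := ev_congr t h
  rw [ev_mulSP, ← ev_negSP] at h2
  rw [h2]
  ext i j
  fin_cases i <;> fin_cases j <;> simp [ev, term]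

/-- `y_r(t)` as an element of `GL₈(F)` -/
def yG (r : Fin chevG2.nroots) (t : F) : GL (Fin 8) F :=
  ⟨ev t (Y r), ev (-t) (Y r), Y_mul_neg t r, by
    have := Y_mul_neg (-t) r
    rwa [neg_neg] at this⟩

theorem yG_mem (r : Fin chevG2.nroots) (t : F) : yG r t ∈ Cfsg.Lie.G2 F := fun x y => zorn_Y r t x y

/-- the coordinate functionals -/
def coord (u : chevG2.Idx) (M : Matrix (Fin 8) (Fin 8) F) : F :=
  ((Dl u).map fun d => ((d.2.2 : ℤ) : F) * M d.1 d.2.1).sum

theorem coord_add (u : chevG2.Idx) (M N : Matrix (Fin 8) (Fin 8) F) : coord u (M + N) = coord u M + coord u N := by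
  simp only [coord, Matrix.add_apply, mul_add]
  exact List.sum_map_add

theorem coord_smul (u : chevG2.Idx) (c : F) (M : Matrix (Fin 8) (Fin 8) F) : coord u (c • M) = c * coord u M := by
  simp only [coord, Matrix.smul_apply, smul_eq_mul]
  rw [← List.sum_map_mul_left]
  congr 2
  funext d
  ring

theorem coord_EM (u s : chevG2.Idx) : coord u (EM F s) = if u = s then 1 else 0 := by
  have h := List.all_eq_true.1 chkDual u (mem_allIdx u)
  have h2 := List.all_eq_true.1 h s (mem_allIdx s)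
  have h3 := of_decide_eq_true h2
  have h4 := congrArg (fun z : ℤ => (z : F)) h3
  simp only [Int.cast_list_sum, List.map_map] at h4
  simp only [coord, EM_apply]
  rw [show (if u = s then (1 : F) else 0) = ((if u = s then (1 : ℤ) else 0 : ℤ) : F) by split_ifs <;> simp, ← h4]
  congr 2
  funext d
  simp

theorem coord_sum (u : chevG2.Idx) (c : chevG2.Idx → F) : coord u (∑ s, c s • EM F s) = c u := by
  have h : ∀ S : Finset chevG2.Idx, coord u (∑ s ∈ S, c s • EM F s) = ∑ s ∈ S, c s * coord u (EM F s) := by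
    intro S
    induction S using Finset.induction_on with
    | empty => simp [coord]
    | insert a S ha ih => rw [Finset.sum_insert ha, Finset.sum_insert ha, coord_add, coord_smul, ih]
  rw [h, Finset.sum_eq_single u]
  · rw [coord_EM, if_pos rfl, mul_one]
  · intro s _ hs
    rw [coord_EM, if_neg (Ne.symm hs), mul_zero]
  · intro hu
    exact absurd (Finset.mem_univ u) hu

/-- linear independence of the 14 matrices -/
theorem sum_inj {c d : chevG2.Idx → F} (h : ∑ s, c s • EM F s = ∑ s, d s • EM F s) : c = d := by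
  funext u
  rw [← coord_sum u c, h, coord_sum]

/-- matrices of size 8 -/
abbrev M8 (F : Type*) := Matrix (Fin 8) (Fin 8) F

/-- matrices of size 14 -/
abbrev M14 (F : Type*) := Matrix chevG2.Idx chevG2.Idx F

/-- the relation between matrices of size 8 and 14 -/
def Rel (g : Matrix (Fin 8) (Fin 8) F) (M : Matrix chevG2.Idx chevG2.Idx F) : Prop :=
  ∀ s, g * EM F s = (∑ u, M u s • EM F u) * g

theorem rel_one : Rel (1 : Matrix (Fin 8) (Fin 8) F) 1 := by
  intro s
  rw [one_mul, mul_one, Finset.sum_eq_single s]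
  · simp
  · intro u _ hu
    simp [hu]
  · intro hs
    exact absurd (Finset.mem_univ s) hs

theorem rel_mul {g g' : Matrix (Fin 8) (Fin 8) F} {M M' : Matrix chevG2.Idx chevG2.Idx F} (h : Rel g M)
    (h' : Rel g' M') : Rel (g * g') (M * M') := by
  intro s
  rw [mul_assoc, h' s, ← mul_assoc, Finset.mul_sum, ← mul_assoc]
  congr 1
  have h1 : ∀ u, g * (M' u s • EM F u) = M' u s • ((∑ v, M v u • EM F v) * g) := by
    intro u
    rw [Matrix.mul_smul, h u]
  simp only [h1]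
  rw [← Finset.sum_congr rfl fun u _ => (Matrix.smul_mul (M' u s) (∑ v, M v u • EM F v) g), ← Finset.sum_mul]
  congr 1
  simp only [Finset.smul_sum, smul_smul, Matrix.mul_apply, Finset.sum_smul]
  rw [Finset.sum_comm]
  refine Finset.sum_congr rfl fun u _ => Finset.sum_congr rfl fun v _ => ?_
  rw [mul_comm]

theorem rel_inv {g : GL (Fin 8) F} {M : GL chevG2.Idx F} (h : Rel (g : M8 F) (M : M14 F)) :
    Rel ((g⁻¹ : GL (Fin 8) F) : M8 F) ((M⁻¹ : GL chevG2.Idx F) : M14 F) := by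
  have hgg : ((g⁻¹ : GL (Fin 8) F) : M8 F) * (g : M8 F) = 1 := by
    rw [← Units.val_mul, inv_mul_cancel, Units.val_one]
  have hgg' : (g : M8 F) * ((g⁻¹ : GL (Fin 8) F) : M8 F) = 1 := by
    rw [← Units.val_mul, mul_inv_cancel, Units.val_one]
  have hMM : (M : M14 F) * ((M⁻¹ : GL chevG2.Idx F) : M14 F) = 1 := by
    rw [← Units.val_mul, mul_inv_cancel, Units.val_one]
  intro v
  -- `∑_s (M⁻¹)_{s v} e_s = g⁻¹ e_v g`
  have h1 : (g : M8 F) * (∑ s, ((M⁻¹ : GL chevG2.Idx F) : M14 F) s v • EM F s) =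
      EM F v * (g : M8 F) := by
    rw [Finset.mul_sum]
    have h2 : ∀ s, (g : M8 F) * (((M⁻¹ : GL chevG2.Idx F) : M14 F) s v • EM F s) =
        (∑ u, ((M : M14 F) u s * ((M⁻¹ : GL chevG2.Idx F) : M14 F) s v) • EM F u) *
          (g : M8 F) := by
      intro s
      rw [Matrix.mul_smul, h s, ← Matrix.smul_mul, Finset.smul_sum]
      congr 1
      refine Finset.sum_congr rfl fun u _ => ?_
      rw [smul_smul, mul_comm]
    simp only [h2]
    rw [← Finset.sum_mul, Finset.sum_comm]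
    congr 1
    have h3 : ∀ u, ∑ s, ((M : M14 F) u s * ((M⁻¹ : GL chevG2.Idx F) : M14 F) s v) • EM F u =
        (1 : Matrix chevG2.Idx chevG2.Idx F) u v • EM F u := by
      intro u
      rw [← Finset.sum_smul, ← Matrix.mul_apply, hMM]
    simp only [h3]
    rw [Finset.sum_eq_single v]
    · simp
    · intro u _ hu
      simp [hu]
    · intro hs
      exact absurd (Finset.mem_univ v) hs
  calc ((g⁻¹ : GL (Fin 8) F) : M8 F) * EM F v
      = ((g⁻¹ : GL (Fin 8) F) : M8 F) * (EM F v * (g : M8 F)) *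
        ((g⁻¹ : GL (Fin 8) F) : M8 F) := by
        rw [mul_assoc (_ : Matrix (Fin 8) (Fin 8) F) (EM F v * _), mul_assoc (EM F v), hgg', mul_one]
    _ = _ := by rw [← h1, ← mul_assoc, hgg, one_mul]

/-- uniqueness of the second component -/
theorem rel_unique {g : GL (Fin 8) F} {M M' : Matrix chevG2.Idx chevG2.Idx F}
    (h : Rel (g : M8 F) M) (h' : Rel (g : M8 F) M') : M = M' := by
  have hgg' : (g : M8 F) * ((g⁻¹ : GL (Fin 8) F) : M8 F) = 1 := by
    rw [← Units.val_mul, mul_inv_cancel, Units.val_one]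
  ext u s
  have h1 := (h s).symm.trans (h' s)
  have h2 : ∑ u, M u s • EM F u = ∑ u, M' u s • EM F u := by
    have := congrArg (fun X => X * ((g⁻¹ : GL (Fin 8) F) : M8 F)) h1
    simpa only [mul_assoc, hgg', mul_one] using this
  exact congrFun (sum_inj (c := fun u => M u s) (d := fun u => M' u s) h2) u

theorem xMat_mul_neg (r : Fin chevG2.nroots) (t : F) : chevG2.xMat F r t * chevG2.xMat F r (-t) = 1 := by
  have h1 : Rel (yG r t : M8 F) (chevG2.xMat F r t) := conj t r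
  have h2 : Rel (yG r (-t) : M8 F) (chevG2.xMat F r (-t)) := conj (-t) r
  have h3 := rel_mul h1 h2
  have h4 : (yG r t : M8 F) * (yG r (-t) : M8 F) = ((1 : GL (Fin 8) F) : M8 F) :=
    Y_mul_neg t r
  rw [h4] at h3
  exact rel_unique h3 rel_one

/-- `x_r(t)` as an element of `GL₁₄(F)` -/
def xG (r : Fin chevG2.nroots) (t : F) : GL chevG2.Idx F :=
  ⟨chevG2.xMat F r t, chevG2.xMat F r (-t), xMat_mul_neg r t, by
    have := xMat_mul_neg r (-t)
    rwa [neg_neg] at this⟩

/-- the linking group -/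
def Link (F : Type*) [Field F] : Subgroup (GL (Fin 8) F × GL chevG2.Idx F) :=
  Subgroup.closure {p | ∃ (r : Fin chevG2.nroots) (t : F), p = (yG r t, xG r t)}

theorem link_rel {p : GL (Fin 8) F × GL chevG2.Idx F} (hp : p ∈ Link F) :
    Rel (p.1 : M8 F) (p.2 : M14 F) := by
  induction hp using Subgroup.closure_induction with
  | mem x hx => obtain ⟨r, t, rfl⟩ := hx; exact conj t r
  | one => exact rel_one
  | mul x y _ _ hx hy => exact rel_mul hx hy
  | inv x _ hx => exact rel_inv hx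

theorem link_fst_mem {p : GL (Fin 8) F × GL chevG2.Idx F} (hp : p ∈ Link F) : p.1 ∈ Cfsg.Lie.G2 F := by
  induction hp using Subgroup.closure_induction with
  | mem x hx => obtain ⟨r, t, rfl⟩ := hx; exact yG_mem r t
  | one => exact one_mem _
  | mul x y _ _ hx hy => exact mul_mem hx hy
  | inv x _ hx => exact inv_mem hx

/-- first projection -/
def toG2 (F : Type*) [Field F] : Link F →* Cfsg.Lie.G2 F :=
  ((MonoidHom.fst _ _).comp (Link F).subtype).codRestrict _ fun p => link_fst_mem p.2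

theorem toG2_injective : Function.Injective (toG2 F) := by
  intro p q hpq
  have h1 : (p : GL (Fin 8) F × GL chevG2.Idx F).1 = (q : GL (Fin 8) F × GL chevG2.Idx F).1 :=
    congrArg Subtype.val hpq
  have hp := link_rel p.2
  have hq := link_rel q.2
  rw [← h1] at hq
  have h2 := rel_unique hp hq
  exact Subtype.ext (Prod.ext h1 (Units.ext h2))

theorem map_snd : (Link F).map (MonoidHom.snd _ _) = chevG2.group F := by
  rw [Link, MonoidHom.map_closure, ChevalleyDatum.group]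
  congr 1
  ext g
  constructor
  · rintro ⟨p, ⟨r, t, rfl⟩, rfl⟩
    exact ⟨r, t, rfl⟩
  · rintro ⟨r, t, hg⟩
    exact ⟨(yG r t, xG r t), ⟨r, t, rfl⟩, Units.ext hg.symm⟩

/-- second projection -/
def toChev (F : Type*) [Field F] : Link F →* chevG2.group F :=
  ((MonoidHom.snd _ _).comp (Link F).subtype).codRestrict _ fun p => by
    rw [← map_snd]
    exact ⟨p.1, p.2, rfl⟩

theorem toChev_surjective : Function.Surjective (toChev F) := by
  rintro ⟨g, hg⟩
  rw [← map_snd] at hg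
  obtain ⟨p, hp, rfl⟩ := hg
  exact ⟨⟨p, hp⟩, rfl⟩

/-- If `Cfsg.Lie.G2 F` is not larger than the Chevalley group they are isomorphic. -/
theorem nonempty_equiv [Finite F] (h : Nat.card (Cfsg.Lie.G2 F) ≤ Nat.card (chevG2.group F)) :
    Nonempty (Cfsg.Lie.G2 F ≃* chevG2.group F) := by
  have h1 : Nat.card (Link F) ≤ Nat.card (Cfsg.Lie.G2 F) := Nat.card_le_card_of_injective _ toG2_injective
  have h2 : Nat.card (chevG2.group F) ≤ Nat.card (Link F) := Nat.card_le_card_of_surjective _ toChev_surjective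
  have b1 : Function.Bijective (toG2 F) :=
    (Nat.bijective_iff_injective_and_card _).2 ⟨toG2_injective, by omega⟩
  have b2 : Function.Bijective (toChev F) :=
    (Nat.bijective_iff_surjective_and_card _).2 ⟨toChev_surjective, by omega⟩
  exact ⟨(MulEquiv.ofBijective _ b1).symm.trans (MulEquiv.ofBijective _ b2)⟩

end Cfsg.Agent.H638.G2Link
end
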