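import Cfsg.Prelude.Def_G2
import Cfsg.Prelude.Def_ChevG2
set_option linter.all false

/-!
# The octonion automorphism group `Cfsg.Lie.G2 F` and the Chevalley group `chevG2.group F`: the comparison group

`tabE`, `tabH`: the 14 matrices (root vectors, fundamental coroots) of a Chevalley basis of the derivation algebra of
Zorn's algebra, with exactly the structure constants of `chevG2`; `tabY`: `y_r(t) = exp(t e_r)`.
* `yG_mem`: `y_r(t)` is an automorphism of Zorn's algebra;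
* `conj`: `y_r(t) e_s = (∑_u x_r(t)_{u s} e_u) y_r(t)`;
* `exists_link`: for every field `F` there is a group `Γ` with an injective homomorphism to `Cfsg.Lie.G2 F` and a
  surjective homomorphism to `chevG2.group F`.
-/

set_option autoImplicit false

namespace Cfsg.Agent.H638.G2Rep

open Cfsg.Lie Matrix

/-- sparse matrices with polynomial entries: `(k, i, j, v)` is the term `v t^k` at the place `(i, j)`. -/
abbrev SP := List (ℕ × Fin 8 × Fin 8 × ℤ)

section ring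

variable {R : Type*} [CommRing R]

/-- value of a term -/
def term (t : R) (p : ℕ × Fin 8 × Fin 8 × ℤ) : Matrix (Fin 8) (Fin 8) R :=
  Matrix.single p.2.1 p.2.2.1 ((p.2.2.2 : R) * t ^ p.1)

/-- value of a sparse matrix -/
def ev (t : R) (A : SP) : Matrix (Fin 8) (Fin 8) R := (A.map (term t)).sum

theorem ev_nil (t : R) : ev t [] = 0 := rfl

theorem ev_cons (t : R) (p : ℕ × Fin 8 × Fin 8 × ℤ) (A : SP) : ev t (p :: A) = term t p + ev t A := by
  simp [ev]

theorem ev_append (t : R) (A B : SP) : ev t (A ++ B) = ev t A + ev t B := by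
  simp [ev]

/-- product with a term -/
def mulT (p : ℕ × Fin 8 × Fin 8 × ℤ) (B : SP) : SP :=
  B.flatMap fun q => if p.2.2.1 = q.2.1 then [(p.1 + q.1, p.2.1, q.2.2.1, p.2.2.2 * q.2.2.2)] else []

/-- product -/
def mulSP (A B : SP) : SP := A.flatMap fun p => mulT p B

theorem ev_mulT (t : R) (p : ℕ × Fin 8 × Fin 8 × ℤ) (B : SP) : ev t (mulT p B) = term t p * ev t B := by
  induction B with
  | nil => simp [mulT, ev_nil]
  | cons q B ih =>
    have h : mulT p (q :: B) = (if p.2.2.1 = q.2.1 then [(p.1 + q.1, p.2.1, q.2.2.1, p.2.2.2 * q.2.2.2)] else [])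
        ++ mulT p B := by
      simp [mulT]
    rw [h, ev_append, ih, ev_cons, mul_add]
    congr 1
    split_ifs with hpq
    · rw [ev_cons, ev_nil, add_zero]
      simp only [term, hpq]
      rw [Matrix.single_mul_single_same]
      congr 1
      push_cast
      ring
    · simp only [term]
      rw [ev_nil, Matrix.single_mul_single_of_ne _ _ _ _ hpq]

theorem ev_mulSP (t : R) (A B : SP) : ev t (mulSP A B) = ev t A * ev t B := by
  induction A with
  | nil => simp [mulSP, ev_nil]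
  | cons p A ih =>
    have h : mulSP (p :: A) B = mulT p B ++ mulSP A B := by simp [mulSP]
    rw [h, ev_append, ih, ev_mulT, ev_cons, add_mul]

/-- multiplication by `v t^k` -/
def smulSP (k : ℕ) (v : ℤ) (A : SP) : SP := A.map fun p => (k + p.1, p.2.1, p.2.2.1, v * p.2.2.2)

theorem ev_smulSP (t : R) (k : ℕ) (v : ℤ) (A : SP) : ev t (smulSP k v A) = ((v : R) * t ^ k) • ev t A := by
  induction A with
  | nil => simp [smulSP, ev_nil]
  | cons p A ih =>
    have h : smulSP k v (p :: A) = (k + p.1, p.2.1, p.2.2.1, v * p.2.2.2) :: smulSP k v A := by simp [smulSP]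
    rw [h, ev_cons, ev_cons, ih, smul_add]
    congr 1
    simp only [term]
    rw [Matrix.smul_single]
    congr 1
    push_cast
    rw [smul_eq_mul]
    ring

/-- `t ↦ -t` -/
def negSP (A : SP) : SP := A.map fun p => (p.1, p.2.1, p.2.2.1, (-1) ^ p.1 * p.2.2.2)

theorem ev_negSP (t : R) (A : SP) : ev (-t) A = ev t (negSP A) := by
  induction A with
  | nil => simp [negSP, ev_nil]
  | cons p A ih =>
    have h : negSP (p :: A) = (p.1, p.2.1, p.2.2.1, (-1) ^ p.1 * p.2.2.2) :: negSP A := by simp [negSP]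
    rw [h, ev_cons, ev_cons, ih]
    congr 1
    simp only [term]
    congr 1
    push_cast
    rw [neg_pow t]
    ring

/-- coefficient of `t^k` at the place `(i, j)` -/
def co (A : SP) (k : ℕ) (i j : Fin 8) : ℤ :=
  (A.map fun p => if p.1 = k then (if p.2.1 = i then (if p.2.2.1 = j then p.2.2.2 else 0) else 0) else 0).sum

theorem ev_apply (t : R) (A : SP) (n : ℕ) (hA : ∀ p ∈ A, p.1 < n) (i j : Fin 8) :
    ev t A i j = ∑ k ∈ Finset.range n, (co A k i j : R) * t ^ k := by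
  induction A with
  | nil => simp [ev_nil, co]
  | cons p A ih =>
    rw [ev_cons, Matrix.add_apply, ih (fun q hq => hA q (List.mem_cons_of_mem _ hq))]
    have h : ∀ k, co (p :: A) k i j = (if p.1 = k then (if p.2.1 = i then (if p.2.2.1 = j then p.2.2.2 else 0) else 0)
        else 0) + co A k i j := by
      intro k
      simp [co]
    simp only [h]
    push_cast
    simp only [add_mul, Finset.sum_add_distrib]
    congr 1
    have hp : p.1 ∈ Finset.range n := Finset.mem_range.2 (hA p (List.mem_cons_self))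
    rw [Finset.sum_eq_single p.1]
    · simp only [term, Matrix.single_apply]
      by_cases h1 : p.2.1 = i
      · by_cases h2 : p.2.2.1 = j
        · simp [h1, h2]
        · simp [h1, h2]
      · simp [h1]
    · intro k _ hk
      simp [Ne.symm hk]
    · intro hk
      exact absurd hp hk

/-- all exponents less than `n` -/
def bdd (n : ℕ) (A : SP) : Bool := A.all fun p => decide (p.1 < n)

/-- decision of equality: only the places which occur have to be compared -/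
def eqSP (n : ℕ) (A B : SP) : Bool :=
  bdd n A && bdd n B && (A ++ B).all fun p => decide (co A p.1 p.2.1 p.2.2.1 = co B p.1 p.2.1 p.2.2.1)

theorem co_eq_zero (A : SP) (k : ℕ) (i j : Fin 8) (h : ∀ p ∈ A, ¬ (p.1 = k ∧ p.2.1 = i ∧ p.2.2.1 = j)) :
    co A k i j = 0 := by
  apply List.sum_eq_zero
  intro x hx
  obtain ⟨p, hp, rfl⟩ := List.mem_map.1 hx
  have := h p hp
  split_ifs with h1 h2 h3
  · exact absurd ⟨h1, h2, h3⟩ this
  all_goals rfl

theorem co_congr {n : ℕ} {A B : SP} (h : eqSP n A B = true) (k : ℕ) (i j : Fin 8) : co A k i j = co B k i j := by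
  simp only [eqSP, Bool.and_eq_true, List.all_eq_true, decide_eq_true_eq] at h
  obtain ⟨-, h⟩ := h
  by_cases hp : ∃ p ∈ A ++ B, p.1 = k ∧ p.2.1 = i ∧ p.2.2.1 = j
  · obtain ⟨p, hp, rfl, rfl, rfl⟩ := hp
    exact h p hp
  · push Not at hp
    rw [co_eq_zero A k i j, co_eq_zero B k i j]
    · rintro p hpB ⟨h1, h2, h3⟩
      exact hp p (List.mem_append_right _ hpB) h1 h2 h3
    · rintro p hpA ⟨h1, h2, h3⟩
      exact hp p (List.mem_append_left _ hpA) h1 h2 h3

theorem ev_congr (t : R) {n : ℕ} {A B : SP} (h : eqSP n A B = true) : ev t A = ev t B := by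
  have hco := co_congr h
  simp only [eqSP, bdd, Bool.and_eq_true, List.all_eq_true, decide_eq_true_eq] at h
  obtain ⟨⟨hA, hB⟩, -⟩ := h
  ext i j
  rw [ev_apply t A n hA, ev_apply t B n hB]
  refine Finset.sum_congr rfl fun k _ => ?_
  rw [hco k]

end ring

/-- Root vectors (and the two fundamental coroots) of the derivation algebra, sparse form. -/
def tabH : List SP := [
  [(0, 1, 1, 2), (0, 2, 2, -1), (0, 3, 3, -1), (0, 4, 4, -2), (0, 5, 5, 1), (0, 6, 6, 1)],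
  [(0, 1, 1, -1), (0, 2, 2, 1), (0, 4, 4, 1), (0, 5, 5, -1)]]

def tabE : List SP := [
  [(0, 3, 2, -1), (0, 5, 6, 1)],
  [(0, 3, 1, -1), (0, 4, 6, 1)],
  [(0, 0, 6, -1), (0, 3, 0, 1), (0, 3, 7, -1), (0, 4, 2, -1), (0, 5, 1, 1), (0, 7, 6, 1)],
  [(0, 0, 2, -1), (0, 1, 6, 1), (0, 3, 4, -1), (0, 5, 0, 1), (0, 5, 7, -1), (0, 7, 2, 1)],
  [(0, 0, 1, -1), (0, 2, 6, -1), (0, 3, 5, 1), (0, 4, 0, 1), (0, 4, 7, -1), (0, 7, 1, 1)],
  [(0, 1, 2, 1), (0, 5, 4, -1)],
  [(0, 2, 1, 1), (0, 4, 5, -1)],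
  [(0, 0, 4, 1), (0, 1, 0, -1), (0, 1, 7, 1), (0, 5, 3, 1), (0, 6, 2, -1), (0, 7, 4, -1)],
  [(0, 0, 5, 1), (0, 2, 0, -1), (0, 2, 7, 1), (0, 4, 3, -1), (0, 6, 1, 1), (0, 7, 5, -1)],
  [(0, 0, 3, 1), (0, 1, 5, 1), (0, 2, 4, -1), (0, 6, 0, -1), (0, 6, 7, 1), (0, 7, 3, -1)],
  [(0, 1, 3, -1), (0, 6, 4, 1)],
  [(0, 2, 3, -1), (0, 6, 5, 1)]]

/-- The root elements `y_r(t) = exp (t e_r)`, sparse form. -/
def tabY : List SP := [
  [(0, 0, 0, 1), (0, 1, 1, 1), (0, 2, 2, 1), (0, 3, 3, 1), (0, 4, 4, 1), (0, 5, 5, 1), (0, 6, 6, 1), (0, 7, 7, 1), (1, 3, 2, -1), (1, 5, 6, 1)],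
  [(0, 0, 0, 1), (0, 1, 1, 1), (0, 2, 2, 1), (0, 3, 3, 1), (0, 4, 4, 1), (0, 5, 5, 1), (0, 6, 6, 1), (0, 7, 7, 1), (1, 3, 1, -1), (1, 4, 6, 1)],
  [(0, 0, 0, 1), (0, 1, 1, 1), (0, 2, 2, 1), (0, 3, 3, 1), (0, 4, 4, 1), (0, 5, 5, 1), (0, 6, 6, 1), (0, 7, 7, 1), (1, 0, 6, -1), (1, 3, 0, 1), (1, 3, 7, -1), (1, 4, 2, -1), (1, 5, 1, 1), (1, 7, 6, 1), (2, 3, 6, -1)],
  [(0, 0, 0, 1), (0, 1, 1, 1), (0, 2, 2, 1), (0, 3, 3, 1), (0, 4, 4, 1), (0, 5, 5, 1), (0, 6, 6, 1), (0, 7, 7, 1), (1, 0, 2, -1), (1, 1, 6, 1), (1, 3, 4, -1), (1, 5, 0, 1), (1, 5, 7, -1), (1, 7, 2, 1), (2, 5, 2, -1)],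
  [(0, 0, 0, 1), (0, 1, 1, 1), (0, 2, 2, 1), (0, 3, 3, 1), (0, 4, 4, 1), (0, 5, 5, 1), (0, 6, 6, 1), (0, 7, 7, 1), (1, 0, 1, -1), (1, 2, 6, -1), (1, 3, 5, 1), (1, 4, 0, 1), (1, 4, 7, -1), (1, 7, 1, 1), (2, 4, 1, -1)],
  [(0, 0, 0, 1), (0, 1, 1, 1), (0, 2, 2, 1), (0, 3, 3, 1), (0, 4, 4, 1), (0, 5, 5, 1), (0, 6, 6, 1), (0, 7, 7, 1), (1, 1, 2, 1), (1, 5, 4, -1)],
  [(0, 0, 0, 1), (0, 1, 1, 1), (0, 2, 2, 1), (0, 3, 3, 1), (0, 4, 4, 1), (0, 5, 5, 1), (0, 6, 6, 1), (0, 7, 7, 1), (1, 2, 1, 1), (1, 4, 5, -1)],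
  [(0, 0, 0, 1), (0, 1, 1, 1), (0, 2, 2, 1), (0, 3, 3, 1), (0, 4, 4, 1), (0, 5, 5, 1), (0, 6, 6, 1), (0, 7, 7, 1), (1, 0, 4, 1), (1, 1, 0, -1), (1, 1, 7, 1), (1, 5, 3, 1), (1, 6, 2, -1), (1, 7, 4, -1), (2, 1, 4, -1)],
  [(0, 0, 0, 1), (0, 1, 1, 1), (0, 2, 2, 1), (0, 3, 3, 1), (0, 4, 4, 1), (0, 5, 5, 1), (0, 6, 6, 1), (0, 7, 7, 1), (1, 0, 5, 1), (1, 2, 0, -1), (1, 2, 7, 1), (1, 4, 3, -1), (1, 6, 1, 1), (1, 7, 5, -1), (2, 2, 5, -1)],
  [(0, 0, 0, 1), (0, 1, 1, 1), (0, 2, 2, 1), (0, 3, 3, 1), (0, 4, 4, 1), (0, 5, 5, 1), (0, 6, 6, 1), (0, 7, 7, 1), (1, 0, 3, 1), (1, 1, 5, 1), (1, 2, 4, -1), (1, 6, 0, -1), (1, 6, 7, 1), (1, 7, 3, -1), (2, 6, 3, -1)],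
  [(0, 0, 0, 1), (0, 1, 1, 1), (0, 2, 2, 1), (0, 3, 3, 1), (0, 4, 4, 1), (0, 5, 5, 1), (0, 6, 6, 1), (0, 7, 7, 1), (1, 1, 3, -1), (1, 6, 4, 1)],
  [(0, 0, 0, 1), (0, 1, 1, 1), (0, 2, 2, 1), (0, 3, 3, 1), (0, 4, 4, 1), (0, 5, 5, 1), (0, 6, 6, 1), (0, 7, 7, 1), (1, 2, 3, -1), (1, 6, 5, 1)]]

/-- Entries giving the coordinates with respect to the 14 matrices. -/
def tabD : List (List (Fin 8 × Fin 8 × ℤ)) := [
  [(3, 3, -1)],
  [(2, 2, 1), (3, 3, -1)],
  [(3, 2, -1)],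
  [(3, 1, -1)],
  [(0, 6, -1)],
  [(0, 2, -1)],
  [(0, 1, -1)],
  [(1, 2, 1)],
  [(2, 1, 1)],
  [(0, 4, 1)],
  [(0, 5, 1)],
  [(0, 3, 1)],
  [(1, 3, -1)],
  [(2, 3, -1)]]

/-- the basis of the derivation algebra -/
def E : chevG2.Idx → SP
  | Sum.inl i => tabH.getD i.val []
  | Sum.inr r => tabE.getD r.val []

/-- the root elements -/
def Y (r : Fin chevG2.nroots) : SP := tabY.getD r.val []

/-- the functionals giving the coordinates -/
def Dl : chevG2.Idx → List (Fin 8 × Fin 8 × ℤ)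
  | Sum.inl i => tabD.getD i.val []
  | Sum.inr r => tabD.getD (2 + r.val) []

/-- the entry `(u, s)` of `x_r(t)` as a polynomial in `t` -/
def colD (r : Fin chevG2.nroots) (s u : chevG2.Idx) : List (ℕ × ℤ) :=
  match s with
  | Sum.inl i =>
    (match u with
     | Sum.inl i' => if i' = i then [(0, 1)] else []
     | Sum.inr u => if u = r then [(1, - ((chevG2.cartanSR.getD i.val #[]).getD r.val 0))] else [])
  | Sum.inr s =>
    if s = r then (match u with | Sum.inr u => if u = r then [(0, 1)] else [] | Sum.inl _ => [])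
    else if s.val = chevG2.negIdx.getD r.val 0 then
      (match u with
       | Sum.inl i => [(1, (chevG2.coroot.getD r.val #[]).getD i.val 0)]
       | Sum.inr u => if u = s then [(0, 1)] else if u = r then [(2, -1)] else [])
    else
      (match u with
       | Sum.inl _ => []
       | Sum.inr u => (if u = s then [(0, 1)] else []) ++ chevG2.chainCoeff r.val s.val u.val)

theorem xMat_apply {F : Type*} [Field F] (r : Fin chevG2.nroots) (t : F) (u s : chevG2.Idx) :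
    chevG2.xMat F r t u s = ((colD r s u).map fun km => ((km.2 : ℤ) : F) * t ^ km.1).sum := by
  rcases s with i | s <;> rcases u with i' | u
  · simp only [ChevalleyDatum.xMat, Matrix.of_apply, colD]
    split_ifs <;> simp
  · simp only [ChevalleyDatum.xMat, Matrix.of_apply, colD]
    split_ifs <;> simp
  · simp only [ChevalleyDatum.xMat, Matrix.of_apply, colD]
    split_ifs <;> simp
  · simp only [ChevalleyDatum.xMat, Matrix.of_apply, colD]
    split_ifs <;> simp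

/-- list of all indices -/
def allIdx : List chevG2.Idx := (List.finRange 2).map Sum.inl ++ (List.finRange 12).map Sum.inr

/-- `∑_u x_r(t)_{u s} e_u` -/
def colSP (r : Fin chevG2.nroots) (s : chevG2.Idx) : SP :=
  allIdx.flatMap fun u => (colD r s u).flatMap fun km => smulSP km.1 km.2 (E u)

/-- check of the conjugation formula -/
def chkConj (r : Fin chevG2.nroots) : Bool :=
  allIdx.all fun s => eqSP 8 (mulSP (Y r) (E s)) (mulSP (colSP r s) (Y r))

set_option maxRecDepth 100000 in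
theorem chkConj_all : ((List.finRange 12).all fun r => chkConj r) = true := by
  decide +kernel

/-- exponents in `E` are zero -/
theorem chkE : (allIdx.all fun s => bdd 1 (E s)) = true := by decide +kernel

/-- `y_r(t) y_r(-t) = 1` -/
theorem chkInv : ((List.finRange 12).all fun r =>
    eqSP 8 (mulSP (Y r) (negSP (Y r))) [(0, 0, 0, 1), (0, 1, 1, 1), (0, 2, 2, 1), (0, 3, 3, 1), (0, 4, 4, 1),
      (0, 5, 5, 1), (0, 6, 6, 1), (0, 7, 7, 1)]) = true := by
  decide +kernel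

/-- the functionals `Dl` are dual to the matrices `E` -/
theorem chkDual : (allIdx.all fun u => allIdx.all fun s =>
    decide (((Dl u).map fun d => d.2.2 * co (E s) 0 d.1 d.2.1).sum = if u = s then 1 else 0)) = true := by
  decide +kernel

end Cfsg.Agent.H638.G2Rep
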